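import Mathlib
import Cfsg.Agent.S0493
import Cfsg.Agent.S0494
import Cfsg.Agent.WeakTI.SmallPerm
set_option linter.all false

/-!
Nonsolvable groups of order 60 and 120.
-/

set_option autoImplicit false

namespace Cfsg.Agent.H352.Order120

open Subgroup

/-- No simple group has order 120. -/
theorem no_simple_120 {G : Type*} [Group G] [Finite G] [IsSimpleGroup G] : Nat.card G ≠ 120 := by
  intro hG
  classical
  have : Fact (Nat.Prime 5) := ⟨by norm_num⟩
  obtain ⟨P⟩ : Nonempty (Sylow 5 G) := inferInstance
  have hP : Nat.card P = 5 := by
    rw [Sylow.card_eq_multiplicity, hG]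
    have h1 : (120 : ℕ).factorization 5 = 1 := by
      rw [show (120 : ℕ) = 5 * 24 by norm_num, Nat.factorization_mul (by norm_num) (by norm_num)]
      rw [Finsupp.add_apply, Nat.Prime.factorization_self (by norm_num),
        Nat.factorization_eq_zero_of_not_dvd (by norm_num)]
    rw [h1, pow_one]
  have hidx : (P : Subgroup G).index = 24 := by
    have := (P : Subgroup G).card_mul_index
    rw [hG, hP] at this
    omega
  have hmod : Nat.card (Sylow 5 G) ≡ 1 [MOD 5] := card_sylow_modEq_one 5 G
  have hdvd : Nat.card (Sylow 5 G) ∣ 24 := by
    rw [← hidx]; exact P.card_dvd_index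
  have hn : Nat.card (Sylow 5 G) = 1 ∨ Nat.card (Sylow 5 G) = 6 := by
    generalize Nat.card (Sylow 5 G) = n at *
    have hle : n ≤ 24 := Nat.le_of_dvd (by norm_num) hdvd
    interval_cases n <;> revert hmod hdvd <;> decide
  rcases hn with hn | hn
  · have hsub : Subsingleton (Sylow 5 G) := (Nat.card_eq_one_iff_unique.1 hn).1
    have hnorm : (P : Subgroup G).Normal := P.normal_of_subsingleton
    rcases hnorm.eq_bot_or_eq_top with h | h
    · have : Nat.card P = 1 := by rw [h]; exact Subgroup.card_bot
      omega
    · have : Nat.card P = Nat.card G := by rw [h]; exact Subgroup.card_top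
      omega
  · let f : G →* Equiv.Perm (Sylow 5 G) := MulAction.toPermHom G (Sylow 5 G)
    have hker : f.ker = ⊥ := by
      rcases (inferInstance : f.ker.Normal).eq_bot_or_eq_top with h | h
      · exact h
      · exfalso
        have h1 : ∀ Q : Sylow 5 G, Q = P := by
          intro Q
          obtain ⟨g, hg⟩ := MulAction.exists_smul_eq G P Q
          have h2 : f g = 1 := by
            have : g ∈ f.ker := by rw [h]; trivial
            exact this
          have h3 : g • P = P := by
            have := congrArg (fun e : Equiv.Perm (Sylow 5 G) => e P) h2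
            exact this
          rw [← hg, h3]
        have : Subsingleton (Sylow 5 G) := ⟨fun a b => by rw [h1 a, h1 b]⟩
        have : Nat.card (Sylow 5 G) ≤ 1 := Finite.card_le_one_iff_subsingleton.2 this
        omega
    have hinj : Function.Injective f := (MonoidHom.ker_eq_bot_iff f).1 hker
    have := Fintype.ofFinite (Sylow 5 G)
    have hsign : ∀ g, f g ∈ alternatingGroup (Sylow 5 G) := by
      intro g
      let s : G →* ℤˣ := Equiv.Perm.sign.comp f
      rcases (inferInstance : s.ker.Normal).eq_bot_or_eq_top with h | h
      · exfalso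
        have h1 : Function.Injective s := (MonoidHom.ker_eq_bot_iff s).1 h
        have h2 := Nat.card_le_card_of_injective s h1
        rw [hG] at h2
        have h3 : Nat.card ℤˣ = 2 := by simp
        omega
      · rw [Equiv.Perm.mem_alternatingGroup]
        have : g ∈ s.ker := by rw [h]; trivial
        exact this
    let F : G →* alternatingGroup (Sylow 5 G) := f.codRestrict _ hsign
    have hFinj : Function.Injective F := by
      intro a b hab
      exact hinj (congrArg Subtype.val hab)
    have h6 : Nat.card (Sylow 5 G) = 6 := hn
    have hnt : Nontrivial (Sylow 5 G) := by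
      apply Finite.one_lt_card_iff_nontrivial.1; omega
    have hA : Nat.card (alternatingGroup (Sylow 5 G)) = 360 := by
      rw [nat_card_alternatingGroup, h6]
      simp [Nat.factorial]
    have hsimple : IsSimpleGroup (alternatingGroup (Sylow 5 G)) :=
      alternatingGroup.isSimpleGroup (by omega)
    have hR : Nat.card F.range = 120 := by
      rw [← hG]
      exact (Nat.card_congr (MonoidHom.ofInjective hFinj).toEquiv).symm
    have hRi := F.range.card_mul_index
    rw [hR, hA] at hRi
    have hRi3 : F.range.index = 3 := by omega
    have := Cfsg.Agent.WeakTI.SmallPerm.index_ge_six (H := F.range) (by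
      intro h
      rw [h, Subgroup.index_top] at hRi3
      omega) (by omega)
    omega

/-- Groups of order less than 60 are solvable. -/
theorem solvable_of_card_lt : ∀ (n : ℕ) (G : Type*) [Group G] [Finite G], Nat.card G = n → n < 60 →
    Group.IsSolvable G := by
  intro n
  induction n using Nat.strong_induction_on with
  | _ n ih =>
    intro G _ _ hG hn
    by_cases hs : IsSimpleGroup G
    · by_cases hc : IsCyclic G
      · let _ : CommGroup G := IsCyclic.commGroup
        infer_instance
      · have := Cfsg.Agent.S0493.result (G := G) hc (by omega)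
        omega
    · by_cases hnt : Nontrivial G
      · have h1 : ∃ N : Subgroup G, N.Normal ∧ N ≠ ⊥ ∧ N ≠ ⊤ := by
          by_contra hcon
          push Not at hcon
          exact hs ⟨fun N hN => by
            by_cases hb : N = ⊥
            · exact Or.inl hb
            · exact Or.inr (hcon N hN hb)⟩
        obtain ⟨N, hN, hb, ht⟩ := h1
        have hmul := N.card_mul_index
        rw [hG] at hmul
        have hN1 : Nat.card N ≠ 1 := fun h => hb (Subgroup.card_eq_one.1 h)
        have hN2 : N.index ≠ 1 := fun h => ht (Subgroup.index_eq_one.1 h)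
        have hN0 : Nat.card N ≠ 0 := Nat.card_pos.ne'
        have hi0 : N.index ≠ 0 := by
          have := Subgroup.index_ne_zero_of_finite (H := N)
          exact this
        have hNlt : Nat.card N < n := by
          rw [← hmul]
          exact lt_mul_of_one_lt_right (by omega) (by omega)
        have hilt : N.index < n := by
          rw [← hmul]
          exact lt_mul_of_one_lt_left (by omega) (by omega)
        have s1 : Group.IsSolvable N := ih _ hNlt N rfl (by omega)
        have s2 : Group.IsSolvable (G ⧸ N) := ih _ hilt (G ⧸ N) rfl (by omega)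
        exact (Group.isSolvable_iff_subgroup_quotient N).2 ⟨s1, s2⟩
      · have : Subsingleton G := not_nontrivial_iff_subsingleton.1 hnt
        infer_instance

/-- A proper nontrivial normal subgroup of a group that is not simple. -/
theorem exists_normal {G : Type*} [Group G] [Nontrivial G] (hs : ¬ IsSimpleGroup G) :
    ∃ N : Subgroup G, N.Normal ∧ N ≠ ⊥ ∧ N ≠ ⊤ := by
  by_contra hcon
  push Not at hcon
  exact hs ⟨fun N hN => by
    by_cases hb : N = ⊥
    · exact Or.inl hb
    · exact Or.inr (hcon N hN hb)⟩

/-- A nonsolvable group of order 60 is `A₅`. -/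
theorem alt5_of_card_60 {G : Type*} [Group G] [Finite G] (hG : Nat.card G = 60)
    (hns : ¬ Group.IsSolvable G) : Nonempty (G ≃* alternatingGroup (Fin 5)) := by
  have hnt : Nontrivial G := by
    apply Finite.one_lt_card_iff_nontrivial.1; omega
  by_cases hs : IsSimpleGroup G
  · exact Cfsg.Agent.S0494.result hG
  · exfalso
    obtain ⟨N, hN, hb, ht⟩ := exists_normal hs
    have hmul := N.card_mul_index
    rw [hG] at hmul
    have hN1 : Nat.card N ≠ 1 := fun h => hb (Subgroup.card_eq_one.1 h)
    have hN2 : N.index ≠ 1 := fun h => ht (Subgroup.index_eq_one.1 h)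
    have hN0 : Nat.card N ≠ 0 := Nat.card_pos.ne'
    have hi0 : N.index ≠ 0 := Subgroup.index_ne_zero_of_finite (H := N)
    have hNlt : Nat.card N < 60 := by
      rw [← hmul]
      exact lt_mul_of_one_lt_right (by omega) (by omega)
    have hilt : N.index < 60 := by
      rw [← hmul]
      exact lt_mul_of_one_lt_left (by omega) (by omega)
    exact hns ((Group.isSolvable_iff_subgroup_quotient N).2
      ⟨solvable_of_card_lt _ N rfl hNlt, solvable_of_card_lt _ (G ⧸ N) rfl hilt⟩)

/-- A nonsolvable group of order 120 has a normal subgroup of order 60 isomorphic to `A₅`, or a normal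
subgroup of order two with quotient `A₅`. -/
theorem structure_120 {G : Type*} [Group G] [Finite G] (hG : Nat.card G = 120)
    (hns : ¬ Group.IsSolvable G) :
    (∃ N : Subgroup G, N.Normal ∧ N.index = 2 ∧ Nonempty (N ≃* alternatingGroup (Fin 5))) ∨
    (∃ (N : Subgroup G) (_ : N.Normal), Nat.card N = 2 ∧
      Nonempty (G ⧸ N ≃* alternatingGroup (Fin 5))) := by
  have hnt : Nontrivial G := by
    apply Finite.one_lt_card_iff_nontrivial.1; omega
  have hs : ¬ IsSimpleGroup G := fun hs => no_simple_120 hG
  obtain ⟨N, hN, hb, ht⟩ := exists_normal hs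
  have hmul := N.card_mul_index
  rw [hG] at hmul
  have hN1 : Nat.card N ≠ 1 := fun h => hb (Subgroup.card_eq_one.1 h)
  have hN2 : N.index ≠ 1 := fun h => ht (Subgroup.index_eq_one.1 h)
  have hN0 : Nat.card N ≠ 0 := Nat.card_pos.ne'
  have hi0 : N.index ≠ 0 := Subgroup.index_ne_zero_of_finite (H := N)
  have hor : ¬ Group.IsSolvable N ∨ ¬ Group.IsSolvable (G ⧸ N) := by
    by_contra hcon
    push Not at hcon
    exact hns ((Group.isSolvable_iff_subgroup_quotient N).2 hcon)
  rcases hor with h | h
  · have h60 : 60 ≤ Nat.card N := by
      by_contra hlt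
      exact h (solvable_of_card_lt _ N rfl (by omega))
    have hi : N.index = 2 := by
      have : N.index < 3 := by
        by_contra h3
        have : 60 * 3 ≤ Nat.card N * N.index := Nat.mul_le_mul h60 (by omega)
        omega
      omega
    have hc : Nat.card N = 60 := by rw [hi] at hmul; omega
    exact Or.inl ⟨N, hN, hi, alt5_of_card_60 hc h⟩
  · have hcq : Nat.card (G ⧸ N) = N.index := rfl
    have h60 : 60 ≤ N.index := by
      by_contra hlt
      exact h (solvable_of_card_lt _ (G ⧸ N) rfl (by rw [hcq]; omega))
    have hi : Nat.card N = 2 := by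
      have : Nat.card N < 3 := by
        by_contra h3
        have : 3 * 60 ≤ Nat.card N * N.index := Nat.mul_le_mul (by omega) h60
        omega
      omega
    have hc : Nat.card (G ⧸ N) = 60 := by rw [hcq]; rw [hi] at hmul; omega
    exact Or.inr ⟨N, hN, hi, alt5_of_card_60 hc h⟩

end Cfsg.Agent.H352.Order120
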